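import Mathlib

/-!
# The twisted conjugacy classes of the Weyl group of type `F₄` (helper637, for S3635)

`L1 L2 L3 L4` : coset representatives, every element of the Weyl group is a product; `T4` the twist, `T4² = 2`.
For all 1152 products `X = T4 l₁ l₂ l₃ l₄`: `X⁴ = a X³ - b X² + c X - d` with `(a, b, c, d)` one of eleven;
if `X⁴ = 2 X² - 4` then `a, X a, X² a, X³ a` span a lattice of index dividing 48, for all roots `a`.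
-/

set_option autoImplicit false

namespace Cfsg.Agent.H637.PG.TwF4W

/-- integer vectors -/
structure V4 where
  a : ℤ
  b : ℤ
  c : ℤ
  d : ℤ
  deriving DecidableEq

/-- integer matrices, the images of the basis -/
structure M4 where
  r0 : V4
  r1 : V4
  r2 : V4
  r3 : V4
  deriving DecidableEq

/-- the image of a vector -/
def app (M : M4) (x : V4) : V4 :=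
  ⟨x.a * M.r0.a + x.b * M.r1.a + x.c * M.r2.a + x.d * M.r3.a,
   x.a * M.r0.b + x.b * M.r1.b + x.c * M.r2.b + x.d * M.r3.b,
   x.a * M.r0.c + x.b * M.r1.c + x.c * M.r2.c + x.d * M.r3.c,
   x.a * M.r0.d + x.b * M.r1.d + x.c * M.r2.d + x.d * M.r3.d⟩

/-- composition -/
def comp (M N : M4) : M4 := ⟨app M N.r0, app M N.r1, app M N.r2, app M N.r3⟩

theorem app_comp (M N : M4) (x : V4) : app (comp M N) x = app M (app N x) := by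
  simp only [app, comp, V4.mk.injEq]
  refine ⟨by ring, by ring, by ring, by ring⟩

theorem comp_assoc (M N P : M4) : comp (comp M N) P = comp M (comp N P) := by
  simp only [comp, M4.mk.injEq]
  exact ⟨app_comp M N _, app_comp M N _, app_comp M N _, app_comp M N _⟩

/-- the determinant -/
def det4 (u v w x : V4) : ℤ :=
  (u.a * v.b - u.b * v.a) * (w.c * x.d - w.d * x.c) - (u.a * v.c - u.c * v.a) * (w.b * x.d - w.d * x.b) +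
  (u.a * v.d - u.d * v.a) * (w.b * x.c - w.c * x.b) + (u.b * v.c - u.c * v.b) * (w.a * x.d - w.d * x.a) -
  (u.b * v.d - u.d * v.b) * (w.a * x.c - w.c * x.a) + (u.c * v.d - u.d * v.c) * (w.a * x.b - w.b * x.a)

def L1 : List M4 := [
  ⟨⟨1, 0, 0, 0⟩, ⟨0, 1, 0, 0⟩, ⟨0, 0, 1, 0⟩, ⟨0, 0, 0, 1⟩⟩,
  ⟨⟨1, 0, 0, 0⟩, ⟨0, 1, 0, 0⟩, ⟨0, 0, 1, 1⟩, ⟨0, 0, 0, -1⟩⟩,
  ⟨⟨1, 0, 0, 0⟩, ⟨0, 1, 1, 0⟩, ⟨0, 0, 0, 1⟩, ⟨0, 0, -1, -1⟩⟩,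
  ⟨⟨1, 1, 0, 0⟩, ⟨0, 1, 1, 0⟩, ⟨0, 0, 0, 1⟩, ⟨0, -2, -1, -1⟩⟩,
  ⟨⟨0, 1, 0, 0⟩, ⟨1, 1, 1, 0⟩, ⟨0, 0, 0, 1⟩, ⟨-2, -2, -1, -1⟩⟩,
  ⟨⟨1, 1, 1, 0⟩, ⟨0, 1, 0, 0⟩, ⟨0, 0, 1, 1⟩, ⟨0, -2, -2, -1⟩⟩,
  ⟨⟨0, 1, 1, 0⟩, ⟨1, 1, 0, 0⟩, ⟨0, 0, 1, 1⟩, ⟨-2, -2, -2, -1⟩⟩,
  ⟨⟨1, 1, 1, 1⟩, ⟨0, 1, 0, 0⟩, ⟨0, 0, 1, 0⟩, ⟨0, -2, -2, -1⟩⟩,
  ⟨⟨0, 1, 1, 0⟩, ⟨1, 0, 0, 0⟩, ⟨0, 2, 1, 1⟩, ⟨-2, -4, -2, -1⟩⟩,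
  ⟨⟨0, 1, 1, 1⟩, ⟨1, 1, 0, 0⟩, ⟨0, 0, 1, 0⟩, ⟨-2, -2, -2, -1⟩⟩,
  ⟨⟨0, 1, 0, 0⟩, ⟨1, 0, 0, 0⟩, ⟨0, 2, 2, 1⟩, ⟨-2, -4, -3, -1⟩⟩,
  ⟨⟨0, 1, 1, 1⟩, ⟨1, 0, 0, 0⟩, ⟨0, 2, 1, 0⟩, ⟨-2, -4, -2, -1⟩⟩,
  ⟨⟨0, 1, 0, 0⟩, ⟨1, 0, 0, 0⟩, ⟨0, 2, 2, 1⟩, ⟨-2, -4, -3, -2⟩⟩,
  ⟨⟨0, 1, 1, 1⟩, ⟨1, 0, 0, 0⟩, ⟨0, 2, 1, 0⟩, ⟨-2, -4, -3, -1⟩⟩,
  ⟨⟨0, 1, 1, 0⟩, ⟨1, 0, 0, 0⟩, ⟨0, 2, 1, 1⟩, ⟨-2, -4, -3, -2⟩⟩,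
  ⟨⟨0, 1, 1, 1⟩, ⟨1, 1, 0, 0⟩, ⟨0, 0, 1, 0⟩, ⟨-2, -4, -3, -1⟩⟩,
  ⟨⟨0, 1, 1, 0⟩, ⟨1, 1, 0, 0⟩, ⟨0, 0, 1, 1⟩, ⟨-2, -4, -3, -2⟩⟩,
  ⟨⟨1, 1, 1, 1⟩, ⟨0, 1, 0, 0⟩, ⟨0, 0, 1, 0⟩, ⟨-2, -4, -3, -1⟩⟩,
  ⟨⟨1, 1, 1, 0⟩, ⟨0, 1, 0, 0⟩, ⟨0, 0, 1, 1⟩, ⟨-2, -4, -3, -2⟩⟩,
  ⟨⟨0, 1, 0, 0⟩, ⟨1, 1, 1, 0⟩, ⟨0, 0, 0, 1⟩, ⟨-2, -4, -3, -2⟩⟩,
  ⟨⟨1, 1, 0, 0⟩, ⟨0, 1, 1, 0⟩, ⟨0, 0, 0, 1⟩, ⟨-2, -4, -3, -2⟩⟩,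
  ⟨⟨1, 0, 0, 0⟩, ⟨0, 1, 1, 0⟩, ⟨0, 0, 0, 1⟩, ⟨-2, -4, -3, -2⟩⟩,
  ⟨⟨1, 0, 0, 0⟩, ⟨0, 1, 0, 0⟩, ⟨0, 0, 1, 1⟩, ⟨-2, -4, -3, -2⟩⟩,
  ⟨⟨1, 0, 0, 0⟩, ⟨0, 1, 0, 0⟩, ⟨0, 0, 1, 0⟩, ⟨-2, -4, -3, -1⟩⟩]

def L2 : List M4 := [
  ⟨⟨1, 0, 0, 0⟩, ⟨0, 1, 0, 0⟩, ⟨0, 0, 1, 0⟩, ⟨0, 0, 0, 1⟩⟩,
  ⟨⟨1, 0, 0, 0⟩, ⟨0, 1, 1, 0⟩, ⟨0, 0, -1, 0⟩, ⟨0, 0, 1, 1⟩⟩,
  ⟨⟨1, 1, 0, 0⟩, ⟨0, 1, 1, 0⟩, ⟨0, -2, -1, 0⟩, ⟨0, 2, 1, 1⟩⟩,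
  ⟨⟨0, 1, 0, 0⟩, ⟨1, 1, 1, 0⟩, ⟨-2, -2, -1, 0⟩, ⟨2, 2, 1, 1⟩⟩,
  ⟨⟨1, 1, 1, 0⟩, ⟨0, 1, 0, 0⟩, ⟨0, -2, -1, 0⟩, ⟨0, 2, 2, 1⟩⟩,
  ⟨⟨0, 1, 1, 0⟩, ⟨1, 1, 0, 0⟩, ⟨-2, -2, -1, 0⟩, ⟨2, 2, 2, 1⟩⟩,
  ⟨⟨0, 1, 1, 0⟩, ⟨1, 0, 0, 0⟩, ⟨-2, -2, -1, 0⟩, ⟨2, 4, 2, 1⟩⟩,
  ⟨⟨0, 1, 0, 0⟩, ⟨1, 0, 0, 0⟩, ⟨-2, -2, -1, 0⟩, ⟨2, 4, 3, 1⟩⟩]

def L3 : List M4 := [
  ⟨⟨1, 0, 0, 0⟩, ⟨0, 1, 0, 0⟩, ⟨0, 0, 1, 0⟩, ⟨0, 0, 0, 1⟩⟩,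
  ⟨⟨1, 1, 0, 0⟩, ⟨0, -1, 0, 0⟩, ⟨0, 2, 1, 0⟩, ⟨0, 0, 0, 1⟩⟩,
  ⟨⟨0, 1, 0, 0⟩, ⟨-1, -1, 0, 0⟩, ⟨2, 2, 1, 0⟩, ⟨0, 0, 0, 1⟩⟩]

def L4 : List M4 := [
  ⟨⟨1, 0, 0, 0⟩, ⟨0, 1, 0, 0⟩, ⟨0, 0, 1, 0⟩, ⟨0, 0, 0, 1⟩⟩,
  ⟨⟨-1, 0, 0, 0⟩, ⟨1, 1, 0, 0⟩, ⟨0, 0, 1, 0⟩, ⟨0, 0, 0, 1⟩⟩]

/-- the positive roots -/
def roots : List V4 := [
  ⟨0, 0, 0, 1⟩,
  ⟨0, 0, 1, 0⟩,
  ⟨0, 0, 1, 1⟩,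
  ⟨0, 1, 0, 0⟩,
  ⟨0, 1, 1, 0⟩,
  ⟨0, 1, 1, 1⟩,
  ⟨0, 2, 1, 0⟩,
  ⟨0, 2, 1, 1⟩,
  ⟨0, 2, 2, 1⟩,
  ⟨1, 0, 0, 0⟩,
  ⟨1, 1, 0, 0⟩,
  ⟨1, 1, 1, 0⟩,
  ⟨1, 1, 1, 1⟩,
  ⟨1, 2, 1, 0⟩,
  ⟨1, 2, 1, 1⟩,
  ⟨1, 2, 2, 1⟩,
  ⟨1, 3, 2, 1⟩,
  ⟨2, 2, 1, 0⟩,
  ⟨2, 2, 1, 1⟩,
  ⟨2, 2, 2, 1⟩,
  ⟨2, 3, 2, 1⟩,
  ⟨2, 4, 2, 1⟩,
  ⟨2, 4, 3, 1⟩,
  ⟨2, 4, 3, 2⟩]

/-- the simple reflections -/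
def s4 : Fin 4 → M4
  | 0 => ⟨⟨-1, 0, 0, 0⟩, ⟨1, 1, 0, 0⟩, ⟨0, 0, 1, 0⟩, ⟨0, 0, 0, 1⟩⟩
  | 1 => ⟨⟨1, 1, 0, 0⟩, ⟨0, -1, 0, 0⟩, ⟨0, 2, 1, 0⟩, ⟨0, 0, 0, 1⟩⟩
  | 2 => ⟨⟨1, 0, 0, 0⟩, ⟨0, 1, 1, 0⟩, ⟨0, 0, -1, 0⟩, ⟨0, 0, 1, 1⟩⟩
  | 3 => ⟨⟨1, 0, 0, 0⟩, ⟨0, 1, 0, 0⟩, ⟨0, 0, 1, 1⟩, ⟨0, 0, 0, -1⟩⟩

/-- the twist -/
def T4 : M4 := ⟨⟨0, 0, 0, 1⟩, ⟨0, 0, 1, 0⟩, ⟨0, 2, 0, 0⟩, ⟨2, 0, 0, 0⟩⟩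

/-- the coefficients `(a, b, c, d)` of `X⁴ - a X³ + b X² - c X + d` -/
def polys : List V4 := [⟨0, 0, 0, -4⟩, ⟨2, 0, -4, -4⟩, ⟨-2, 0, 4, -4⟩, ⟨2, 2, 4, 4⟩, ⟨-2, 2, -4, 4⟩,
  ⟨0, -4, 0, 4⟩, ⟨0, 0, 0, 4⟩, ⟨0, 4, 0, 4⟩, ⟨4, 8, 8, 4⟩, ⟨-4, 8, -8, 4⟩]

/-- `X⁴ - 2 X² + 4` -/
def p6 : V4 := ⟨0, -2, 0, 4⟩

/-- `y₄ = a y₃ - b y₂ + c y₁ - d y₀` -/
def rowOK (p y0 y1 y2 y3 y4 : V4) : Bool :=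
  decide (y4.a = p.a * y3.a - p.b * y2.a + p.c * y1.a - p.d * y0.a) &&
  decide (y4.b = p.a * y3.b - p.b * y2.b + p.c * y1.b - p.d * y0.b) &&
  decide (y4.c = p.a * y3.c - p.b * y2.c + p.c * y1.c - p.d * y0.c) &&
  decide (y4.d = p.a * y3.d - p.b * y2.d + p.c * y1.d - p.d * y0.d)

def chkP (X X2 X3 X4 : M4) (p : V4) : Bool :=
  rowOK p ⟨1, 0, 0, 0⟩ X.r0 X2.r0 X3.r0 X4.r0 && rowOK p ⟨0, 1, 0, 0⟩ X.r1 X2.r1 X3.r1 X4.r1 &&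
  rowOK p ⟨0, 0, 1, 0⟩ X.r2 X2.r2 X3.r2 X4.r2 && rowOK p ⟨0, 0, 0, 1⟩ X.r3 X2.r3 X3.r3 X4.r3

def chkR (X X2 X3 : M4) : Bool :=
  roots.all fun a => decide (48 % det4 a (app X a) (app X2 a) (app X3 a) = 0)

def chk3 (X X2 X3 : M4) : Bool :=
  (fun X4 => (chkP X X2 X3 X4 p6 && chkR X X2 X3) || polys.any (chkP X X2 X3 X4)) (comp X X3)

def chk2 (X X2 : M4) : Bool := (fun X3 => chk3 X X2 X3) (comp X X2)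
def chk (X : M4) : Bool := (fun X2 => chk2 X X2) (comp X X)

def all4 (X : M4) : Bool := L4.all fun l => chk (comp X l)
def all3 (X : M4) : Bool := L3.all fun l => all4 (comp X l)
def all2 (X : M4) : Bool := L2.all fun l => all3 (comp X l)

set_option maxRecDepth 100000 in
theorem all1_0 : (((L1.drop 0).take 4).all fun l => all2 (comp T4 l)) = true := by decide +kernel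

set_option maxRecDepth 100000 in
theorem all1_1 : (((L1.drop 4).take 4).all fun l => all2 (comp T4 l)) = true := by decide +kernel

set_option maxRecDepth 100000 in
theorem all1_2 : (((L1.drop 8).take 4).all fun l => all2 (comp T4 l)) = true := by decide +kernel

set_option maxRecDepth 100000 in
theorem all1_3 : (((L1.drop 12).take 4).all fun l => all2 (comp T4 l)) = true := by decide +kernel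

set_option maxRecDepth 100000 in
theorem all1_4 : (((L1.drop 16).take 4).all fun l => all2 (comp T4 l)) = true := by decide +kernel

set_option maxRecDepth 100000 in
theorem all1_5 : (((L1.drop 20).take 4).all fun l => all2 (comp T4 l)) = true := by decide +kernel

theorem L1_split : L1 = (L1.drop 0).take 4 ++ ((L1.drop 4).take 4 ++ ((L1.drop 8).take 4 ++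
    ((L1.drop 12).take 4 ++ ((L1.drop 16).take 4 ++ (L1.drop 20).take 4)))) := rfl

theorem all1 : (L1.all fun l => all2 (comp T4 l)) = true := by
  rw [L1_split, List.all_append, List.all_append, List.all_append, List.all_append, List.all_append,
    all1_0, all1_1, all1_2, all1_3, all1_4, all1_5]
  rfl

theorem chk_all {a b c d : M4} (ha : a ∈ L1) (hb : b ∈ L2) (hc : c ∈ L3) (hd : d ∈ L4) :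
    chk (comp (comp (comp (comp T4 a) b) c) d) = true := by
  have h1 := List.all_eq_true.1 all1 a ha
  have h2 := List.all_eq_true.1 h1 b hb
  have h3 := List.all_eq_true.1 h2 c hc
  exact List.all_eq_true.1 h3 d hd

/-! ### the cosets -/

theorem step1 : ∀ i : Fin 4, ∀ x ∈ L1, comp (s4 i) x ∈ L1 ∨ ∃ j : Fin 4, j ≠ 3 ∧ comp (s4 i) x = comp x (s4 j) := by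
  decide +kernel

theorem step2 : ∀ i : Fin 4, i ≠ 3 → ∀ x ∈ L2, comp (s4 i) x ∈ L2 ∨
    ∃ j : Fin 4, (j = 0 ∨ j = 1) ∧ comp (s4 i) x = comp x (s4 j) := by
  decide +kernel

theorem step3 : ∀ i : Fin 4, (i = 0 ∨ i = 1) → ∀ x ∈ L3, comp (s4 i) x ∈ L3 ∨ comp (s4 i) x = comp x (s4 0) := by
  decide +kernel

theorem step4 : ∀ x ∈ L4, comp (s4 0) x ∈ L4 := by decide +kernel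

/-- a product of representatives -/
def Prod4 (M : M4) : Prop := ∃ a ∈ L1, ∃ b ∈ L2, ∃ c ∈ L3, ∃ d ∈ L4, M = comp a (comp b (comp c d))

theorem prod4_step {M : M4} (h : Prod4 M) (i : Fin 4) : Prod4 (comp (s4 i) M) := by
  obtain ⟨a, ha, b, hb, c, hc, d, hd, rfl⟩ := h
  rcases step1 i a ha with h1 | ⟨j, hj, h1⟩
  · exact ⟨_, h1, b, hb, c, hc, d, hd, (comp_assoc _ _ _).symm⟩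
  rw [← comp_assoc, h1, comp_assoc]
  rcases step2 j hj b hb with h2 | ⟨l, hl, h2⟩
  · refine ⟨a, ha, _, h2, c, hc, d, hd, ?_⟩
    rw [comp_assoc (s4 j)]
  rw [← comp_assoc (s4 j), h2, comp_assoc b]
  rcases step3 l hl c hc with h3 | h3
  · refine ⟨a, ha, b, hb, _, h3, d, hd, ?_⟩
    rw [comp_assoc (s4 l)]
  rw [← comp_assoc (s4 l), h3, comp_assoc c]
  exact ⟨a, ha, b, hb, c, hc, _, step4 d hd, rfl⟩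

/-- the identity -/
def I4 : M4 := ⟨⟨1, 0, 0, 0⟩, ⟨0, 1, 0, 0⟩, ⟨0, 0, 1, 0⟩, ⟨0, 0, 0, 1⟩⟩

theorem prod4_one : Prod4 I4 := by
  unfold Prod4
  exact ⟨I4, by decide +kernel, I4, by decide +kernel, I4, by decide +kernel, I4, by decide +kernel, by decide +kernel⟩

theorem chk_of_prod {M : M4} (h : Prod4 M) : chk (comp T4 M) = true := by
  obtain ⟨a, ha, b, hb, c, hc, d, hd, rfl⟩ := h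
  have h1 := chk_all ha hb hc hd
  rwa [comp_assoc, comp_assoc, comp_assoc] at h1

end Cfsg.Agent.H637.PG.TwF4W
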